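import Mathlib.RingTheory.MvPowerSeries.Inverse
import Mathlib.RingTheory.DiscreteValuationRing.Basic
import Mathlib.Algebra.BigOperators.Intervals
import Mathlib.Tactic.LinearCombination

/-!
# A cotangent computation for a Weierstrass singularity in residue characteristic two
-/

set_option autoImplicit false
universe u

open MvPowerSeries

namespace AddTateLib

variable {R : Type u} [CommRing R]

/-- The exponent `(i, j)`. -/
noncomputable def ex (i j : ℕ) : Fin 2 →₀ ℕ := Finsupp.single 0 i + Finsupp.single 1 j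

theorem ex_le {i j i' j' : ℕ} : ex i j ≤ ex i' j' ↔ i ≤ i' ∧ j ≤ j' := by
  refine ⟨fun h => ⟨by simpa [ex] using h 0, by simpa [ex] using h 1⟩, fun h l => ?_⟩
  fin_cases l
  · simpa [ex] using h.1
  · simpa [ex] using h.2

theorem ex_sub (i j i' j' : ℕ) : ex i' j' - ex i j = ex (i' - i) (j' - j) := by
  ext l; fin_cases l <;> simp [ex]

theorem XX_eq (i j : ℕ) :
    (X 0 : MvPowerSeries (Fin 2) R) ^ i * X 1 ^ j = monomial (ex i j) 1 := by
  rw [X_pow_eq, X_pow_eq, monomial_mul_monomial, mul_one]; rfl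

theorem coeff_mul_XX (h : MvPowerSeries (Fin 2) R) (i j i' j' : ℕ) :
    coeff (ex i' j') (h * ((X 0 : MvPowerSeries (Fin 2) R) ^ i * X 1 ^ j)) =
      if i ≤ i' ∧ j ≤ j' then coeff (ex (i' - i) (j' - j)) h else 0 := by
  rw [XX_eq, coeff_mul_monomial]
  simp only [ex_le, ex_sub, mul_one]

variable (a₆ : R) (v : ℕ)

/-- The functional reading the coefficient of `y ^ (2v)`. -/
noncomputable def L0 (f : MvPowerSeries (Fin 2) R) : R :=
  ∑ j ∈ Finset.range (v + 1), coeff (ex 0 (2 * j)) f * a₆ ^ j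

/-- The functional reading the coefficient of `x y ^ (2v-1)`. -/
noncomputable def L1 (f : MvPowerSeries (Fin 2) R) : R :=
  ∑ j ∈ Finset.range v, coeff (ex 1 (2 * j + 1)) f * a₆ ^ j

/-- The ideal killed by the functionals modulo powers of `a₆`. -/
noncomputable def K : Ideal (MvPowerSeries (Fin 2) R) where
  carrier := {f | ∀ h, a₆ ^ (v + 1) ∣ L0 a₆ v (h * f) ∧ a₆ ^ v ∣ L1 a₆ v (h * f)}
  add_mem' := fun {f g} hf hg h => by
    have e0 : L0 a₆ v (h * (f + g)) = L0 a₆ v (h * f) + L0 a₆ v (h * g) := by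
      simp only [L0, mul_add, map_add, add_mul, Finset.sum_add_distrib]
    have e1 : L1 a₆ v (h * (f + g)) = L1 a₆ v (h * f) + L1 a₆ v (h * g) := by
      simp only [L1, mul_add, map_add, add_mul, Finset.sum_add_distrib]
    rw [e0, e1]
    exact ⟨dvd_add (hf h).1 (hg h).1, dvd_add (hf h).2 (hg h).2⟩
  zero_mem' := fun h => by simp [L0, L1]
  smul_mem' := fun c f hf h => by
    rw [smul_eq_mul, ← mul_assoc]; exact hf (h * c)

theorem sq_x_mem : (X 0 : MvPowerSeries (Fin 2) R) ^ 2 ∈ K a₆ v := fun h => by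
  have e : (X 0 : MvPowerSeries (Fin 2) R) ^ 2 = X 0 ^ 2 * X 1 ^ 0 := by simp
  rw [e]
  constructor <;>
  · refine Finset.dvd_sum fun j _ => ?_
    rw [coeff_mul_XX, if_neg (by omega), zero_mul]
    exact dvd_zero _

theorem y_pow_mem : (X 1 : MvPowerSeries (Fin 2) R) ^ (2 * v + 1) ∈ K a₆ v := fun h => by
  have e : (X 1 : MvPowerSeries (Fin 2) R) ^ (2 * v + 1) = X 0 ^ 0 * X 1 ^ (2 * v + 1) := by simp
  rw [e]
  constructor <;>
  · refine Finset.dvd_sum fun j hj => ?_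
    rw [Finset.mem_range] at hj
    rw [coeff_mul_XX, if_neg (by omega), zero_mul]
    exact dvd_zero _

theorem xy_pow_mem : (X 0 : MvPowerSeries (Fin 2) R) * X 1 ^ (2 * v) ∈ K a₆ v := fun h => by
  have e : (X 0 : MvPowerSeries (Fin 2) R) * X 1 ^ (2 * v) = X 0 ^ 1 * X 1 ^ (2 * v) := by simp
  rw [e]
  constructor <;>
  · refine Finset.dvd_sum fun j hj => ?_
    rw [Finset.mem_range] at hj
    rw [coeff_mul_XX, if_neg (by omega), zero_mul]
    exact dvd_zero _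

theorem rel_mem : (X 1 : MvPowerSeries (Fin 2) R) ^ 2 - C a₆ ∈ K a₆ v := fun h => by
  have e : h * ((X 1 : MvPowerSeries (Fin 2) R) ^ 2 - C a₆) = h * (X 0 ^ 0 * X 1 ^ 2) - C a₆ * h := by ring
  constructor
  · let F : ℕ → R := fun j => if 1 ≤ j then coeff (ex 0 (2 * j - 2)) h * a₆ ^ j else 0
    have : L0 a₆ v (h * ((X 1 : MvPowerSeries (Fin 2) R) ^ 2 - C a₆)) = ∑ j ∈ Finset.range (v + 1), (F j - F (j + 1)) := by
      refine Finset.sum_congr rfl fun j _ => ?_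
      rw [e, map_sub, coeff_mul_XX, coeff_C_mul]
      simp only [F, if_pos (Nat.le_add_left 1 j), show 2 * (j + 1) - 2 = 2 * j by omega, Nat.sub_zero]
      by_cases hj : 1 ≤ j
      · rw [if_pos ⟨le_rfl, by omega⟩, if_pos hj]; ring
      · rw [if_neg (fun h => hj (by omega)), if_neg hj]; ring
    rw [this, Finset.sum_range_sub']
    simp only [F, if_pos (Nat.le_add_left 1 v), if_neg (Nat.not_succ_le_zero 0), zero_sub]
    exact (dvd_mul_left _ _).neg_right
  · let F : ℕ → R := fun j => if 1 ≤ j then coeff (ex 1 (2 * j - 1)) h * a₆ ^ j else 0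
    have : L1 a₆ v (h * ((X 1 : MvPowerSeries (Fin 2) R) ^ 2 - C a₆)) = ∑ j ∈ Finset.range v, (F j - F (j + 1)) := by
      refine Finset.sum_congr rfl fun j _ => ?_
      rw [e, map_sub, coeff_mul_XX, coeff_C_mul]
      simp only [F, if_pos (Nat.le_add_left 1 j), show 2 * (j + 1) - 1 = 2 * j + 1 by omega, Nat.sub_zero]
      by_cases hj : 1 ≤ j
      · rw [if_pos ⟨Nat.zero_le _, by omega⟩, if_pos hj, show 2 * j + 1 - 2 = 2 * j - 1 by omega]; ring
      · rw [if_neg (fun h => hj (by omega)), if_neg hj]; ring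
    rw [this, Finset.sum_range_sub']
    by_cases h1 : 1 ≤ v
    · simp only [F, if_pos h1, if_neg (Nat.not_succ_le_zero 0), zero_sub]
      exact (dvd_mul_left _ _).neg_right
    · simp [F, h1]

variable [IsDomain R] [IsDiscreteValuationRing R]

theorem main (ϖ a₁ : R) (hϖ : Irreducible ϖ) (hv : 1 ≤ v) (u₁ u₆ : Rˣ) (ha₁ : a₁ = u₁ * ϖ ^ v) (ha₆ : a₆ = u₆ * ϖ)
    (h2 : (2 : R) ∈ IsLocalRing.maximalIdeal R ^ v)
    (x y : MvPowerSeries (Fin 2) R) (hx : x = X 0) (hy : y = X 1)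
    (I M : Ideal (MvPowerSeries (Fin 2) R))
    (hI : I = Ideal.span {y ^ 2 + a₁ • (x * y) - x ^ 3 - algebraMap R (MvPowerSeries (Fin 2) R) a₆,
      2 * y + a₁ • x, 3 * x ^ 2 - a₁ • y})
    (hM : M = Ideal.span {algebraMap R (MvPowerSeries (Fin 2) R) ϖ, x, y}) :
    M ^ (2 * v) ⊔ I = Ideal.span {y ^ (2 * v), x * y ^ (2 * v - 1)} ⊔ I ∧
      ∀ a b : R, a • y ^ (2 * v) + b • (x * y ^ (2 * v - 1)) ∈ M ^ (2 * v + 1) ⊔ I →
        a ∈ IsLocalRing.maximalIdeal R ∧ b ∈ IsLocalRing.maximalIdeal R := by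
  have hmax := hϖ.maximalIdeal_eq
  obtain ⟨c, hc⟩ : ϖ ^ v ∣ (2 : R) := by
    rwa [hmax, Ideal.span_singleton_pow, Ideal.mem_span_singleton] at h2
  have h2m : (2 : R) ∈ IsLocalRing.maximalIdeal R := Ideal.pow_le_self (by omega) h2
  obtain ⟨t, ht⟩ : ∃ t : R, t * 3 = 1 := by
    refine IsUnit.exists_left_inv ?_
    by_contra h3
    apply (IsLocalRing.maximalIdeal.isMaximal R).ne_top
    rw [Ideal.eq_top_iff_one]
    have := sub_mem ((IsLocalRing.mem_maximalIdeal _).2 h3 : (3 : R) ∈ _) h2m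
    norm_num at this
  set g1 := y ^ 2 + a₁ • (x * y) - x ^ 3 - algebraMap R (MvPowerSeries (Fin 2) R) a₆ with hg1
  set g2 := 2 * y + a₁ • x with hg2
  set g3 := 3 * x ^ 2 - a₁ • y with hg3
  have hg1I : g1 ∈ I := hI ▸ Ideal.subset_span (by simp)
  have hg2I : g2 ∈ I := hI ▸ Ideal.subset_span (by simp)
  have hg3I : g3 ∈ I := hI ▸ Ideal.subset_span (by simp)
  let Cx : R →+* MvPowerSeries (Fin 2) R := C
  have hsm : ∀ (r : R) (f : MvPowerSeries (Fin 2) R), r • f = Cx r * f := fun r f => smul_eq_C_mul f r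
  have hal : ∀ r : R, algebraMap R (MvPowerSeries (Fin 2) R) r = Cx r := fun r => rfl
  have hC3 : Cx t * 3 = 1 := by rw [← map_ofNat Cx 3, ← map_mul, ht, map_one]
  set p := Cx ϖ
  have hA1 : Cx a₁ = Cx u₁ * p ^ v := by rw [ha₁, map_mul, map_pow]
  have hA6 : Cx a₆ = Cx u₆ * p := by rw [ha₆, map_mul]
  have hp : p ^ v = p ^ (v - 1) * p := by rw [← pow_succ]; congr 1; omega
  set W := Cx u₆ - Cx u₁ * p ^ (v - 1) * (1 - Cx t) * (x * y) with hW
  have hWu : IsUnit W := by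
    rw [isUnit_iff_constantCoeff]
    simp [hW, hx, hy, Cx]
  obtain ⟨Wi, hWi⟩ := hWu.exists_left_inv
  have hxx : x ^ 2 - Cx t * Cx u₁ * p ^ v * y ∈ I := by
    have : x ^ 2 - Cx t * Cx u₁ * p ^ v * y = Cx t * g3 := by
      rw [hg3, hsm, hA1]
      linear_combination (-(x ^ 2)) * hC3
    rw [this]; exact I.mul_mem_left _ hg3I
  have hpI : p - Wi * y ^ 2 ∈ I := by
    have : p - Wi * y ^ 2 = -(Wi * (g1 + Cx t * x * g3)) := by
      rw [hg1, hg3, hsm, hsm, hal, hA1, hA6]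
      linear_combination (-p) * hWi + Wi * x ^ 3 * hC3 + Wi * (Cx u₁ * x * y * (1 - Cx t)) * hp + Wi * p * hW
    rw [this]; exact I.neg_mem (I.mul_mem_left _ (I.add_mem hg1I (I.mul_mem_left _ hg3I)))
  have hpm : p ∈ M := hM ▸ Ideal.subset_span (by simp [p, hal])
  have hxm : x ∈ M := hM ▸ Ideal.subset_span (by simp)
  have hym : y ∈ M := hM ▸ Ideal.subset_span (by simp)
  let J : ℕ → Ideal (MvPowerSeries (Fin 2) R) := fun n => Ideal.span {y ^ n, x * y ^ (n - 1)}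
  have hJy : ∀ n, y ^ n ∈ J n := fun n => Ideal.subset_span (by simp)
  have hJx : ∀ n, x * y ^ (n - 1) ∈ J n := fun n => Ideal.subset_span (by simp)
  have hJM : ∀ n, 1 ≤ n → J n ≤ M ^ n := fun n hn => by
    rw [Ideal.span_le]
    rintro z (rfl | rfl)
    · exact Ideal.pow_mem_pow hym n
    · show x * y ^ (n - 1) ∈ M ^ n
      rw [show M ^ n = M * M ^ (n - 1) by rw [← pow_succ']; congr 1; omega]
      exact Ideal.mul_mem_mul hxm (Ideal.pow_mem_pow hym _)
  have hpJ : p ∈ J 1 ⊔ I := Submodule.mem_sup.2 ⟨Wi * y * y ^ 1, Ideal.mul_mem_left _ _ (hJy 1), p - Wi * y ^ 2, hpI, by ring⟩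
  have hx2 : ∃ w, x ^ 2 - w * y ^ 2 ∈ I := by
    refine ⟨Cx t * Cx u₁ * p ^ (v - 1) * Wi * y, ?_⟩
    have : x ^ 2 - Cx t * Cx u₁ * p ^ (v - 1) * Wi * y * y ^ 2 =
        (x ^ 2 - Cx t * Cx u₁ * p ^ v * y) + Cx t * Cx u₁ * p ^ (v - 1) * y * (p - Wi * y ^ 2) := by
      rw [hp]; ring
    rw [this]; exact I.add_mem hxx (I.mul_mem_left _ hpI)
  obtain ⟨w, hw⟩ := hx2
  have key : ∀ n, M ^ (n + 1) ⊔ I = J (n + 1) ⊔ I := by
    intro n
    refine le_antisymm (sup_le ?_ le_sup_right) (sup_le_sup_right (hJM _ (Nat.succ_pos _)) _)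
    induction n with
    | zero =>
      rw [zero_add, pow_one, hM, Ideal.span_le]
      rintro z (rfl | rfl | rfl)
      · exact hpJ
      · exact Ideal.mem_sup_left (by simpa using hJx 1)
      · exact Ideal.mem_sup_left (by simpa using hJy 1)
    | succ n ih =>
      rw [pow_succ]
      have hM1 : M ≤ J 1 ⊔ I := by
        rw [hM, Ideal.span_le]
        rintro z (rfl | rfl | rfl)
        · exact hpJ
        · exact Ideal.mem_sup_left (by simpa using hJx 1)
        · exact Ideal.mem_sup_left (by simpa using hJy 1)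
      refine (Ideal.mul_mono ih hM1).trans ?_
      rw [Ideal.sup_mul]
      refine sup_le ?_ (Ideal.mul_le_left.trans le_sup_right)
      rw [Ideal.mul_sup]
      refine sup_le ?_ (Ideal.mul_le_right.trans le_sup_right)
      rw [Ideal.span_mul_span', Ideal.span_le]
      rintro _ ⟨z, (rfl | rfl), z', (rfl | rfl), rfl⟩
      · exact Ideal.mem_sup_left (by simpa [pow_succ] using hJy (n + 2))
      · refine Ideal.mem_sup_left ?_
        show y ^ (n + 1) * (x * y ^ (1 - 1)) ∈ J (n + 2)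
        have := hJx (n + 2)
        convert this using 1
        simp; ring
      · refine Ideal.mem_sup_left ?_
        show x * y ^ (n + 1 - 1) * y ^ 1 ∈ J (n + 2)
        have := hJx (n + 2)
        convert this using 1
        simp; ring
      · show x * y ^ (n + 1 - 1) * (x * y ^ (1 - 1)) ∈ J (n + 2) ⊔ I
        refine Submodule.mem_sup.2 ⟨w * y ^ (n + 2), Ideal.mul_mem_left _ _ (hJy _), y ^ n * (x ^ 2 - w * y ^ 2),
          I.mul_mem_left _ hw, ?_⟩
        simp; ring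
  refine ⟨?_, fun a b hab => ?_⟩
  · have := key (2 * v - 1)
    rwa [show 2 * v - 1 + 1 = 2 * v by omega] at this
  rw [key (2 * v)] at hab
  subst hx hy
  have hK : J (2 * v + 1) ⊔ I ≤ K a₆ v := by
    have hE := rel_mem a₆ v
    have hpow : Cx (a₆ ^ v) - (X 1 : MvPowerSeries (Fin 2) R) ^ (2 * v) ∈ K a₆ v := by
      obtain ⟨q, hq⟩ := sub_dvd_pow_sub_pow ((X 1 : MvPowerSeries (Fin 2) R) ^ 2) (Cx a₆) v
      have : Cx (a₆ ^ v) - (X 1 : MvPowerSeries (Fin 2) R) ^ (2 * v) = -q * ((X 1) ^ 2 - Cx a₆) := by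
        rw [map_pow, pow_mul]; linear_combination (-1 : MvPowerSeries (Fin 2) R) * hq
      rw [this]; exact Ideal.mul_mem_left _ _ hE
    have hpv : ∀ z : MvPowerSeries (Fin 2) R, z * X 1 ^ (2 * v) ∈ K a₆ v → z * p ^ v ∈ K a₆ v := fun z hz => by
      have e : z * p ^ v = Cx ((↑u₆⁻¹ : R) ^ v) * (z * (Cx (a₆ ^ v) - X 1 ^ (2 * v)) + z * X 1 ^ (2 * v)) := by
        have hu : Cx (↑u₆⁻¹ : R) * Cx (u₆ : R) = 1 := by rw [← map_mul, Units.inv_mul, map_one]
        rw [map_pow, map_pow, hA6, mul_pow]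
        have hu' : Cx (↑u₆⁻¹ : R) ^ v * Cx (u₆ : R) ^ v = 1 := by rw [← mul_pow, hu, one_pow]
        linear_combination (-(z * p ^ v)) * hu'
      rw [e]
      exact Ideal.mul_mem_left _ _ ((K a₆ v).add_mem (Ideal.mul_mem_left _ _ hpow) hz)
    have hyp : (X 1 : MvPowerSeries (Fin 2) R) * p ^ v ∈ K a₆ v := hpv _ (by
      have := y_pow_mem (R := R) a₆ v; rwa [pow_succ'] at this)
    have hxp : (X 0 : MvPowerSeries (Fin 2) R) * p ^ v ∈ K a₆ v := hpv _ (xy_pow_mem a₆ v)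
    refine sup_le (Ideal.span_le.2 ?_) (hI.le.trans (Ideal.span_le.2 ?_))
    · rintro z (rfl | rfl)
      · exact y_pow_mem a₆ v
      · exact xy_pow_mem a₆ v
    · rintro z (rfl | rfl | rfl)
      · show g1 ∈ K a₆ v
        have : g1 = ((X 1) ^ 2 - Cx a₆) + Cx u₁ * X 1 * (X 0 * p ^ v) - X 0 * X 0 ^ 2 := by
          rw [hg1, hsm, hal, hA1]; ring
        rw [this]
        exact (K a₆ v).sub_mem ((K a₆ v).add_mem hE (Ideal.mul_mem_left _ _ hxp)) (Ideal.mul_mem_left _ _ (sq_x_mem a₆ v))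
      · show g2 ∈ K a₆ v
        have : g2 = Cx c * (X 1 * p ^ v) + Cx u₁ * (X 0 * p ^ v) := by
          have e2 : (2 : MvPowerSeries (Fin 2) R) = p ^ v * Cx c := by
            rw [← map_pow, ← map_mul, ← hc, map_ofNat]
          rw [hg2, hsm, hA1, e2]; ring
        rw [this]
        exact (K a₆ v).add_mem (Ideal.mul_mem_left _ _ hyp) (Ideal.mul_mem_left _ _ hxp)
      · show g3 ∈ K a₆ v
        have : g3 = 3 * X 0 ^ 2 - Cx u₁ * (X 1 * p ^ v) := by rw [hg3, hsm, hA1]; ring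
        rw [this]
        exact (K a₆ v).sub_mem (Ideal.mul_mem_left _ _ (sq_x_mem a₆ v)) (Ideal.mul_mem_left _ _ hyp)
  obtain ⟨h0, h1⟩ := hK hab 1
  have e : (1 : MvPowerSeries (Fin 2) R) * (a • X 1 ^ (2 * v) + b • (X 0 * X 1 ^ (2 * v - 1))) =
      Cx a * (X 0 ^ 0 * X 1 ^ (2 * v)) + Cx b * (X 0 ^ 1 * X 1 ^ (2 * v - 1)) := by
    rw [hsm, hsm]; ring
  have hco : ∀ i j : ℕ, coeff (ex i j) (Cx a * (X 0 ^ 0 * X 1 ^ (2 * v)) + Cx b * (X 0 ^ 1 * X 1 ^ (2 * v - 1))) =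
      (if i = 0 ∧ j = 2 * v then a else 0) + if i = 1 ∧ j = 2 * v - 1 then b else 0 := by
    intro i j
    rw [map_add, XX_eq, XX_eq, coeff_C_mul, coeff_C_mul, coeff_monomial, coeff_monomial]
    have hinj : ∀ i' j', ex i j = ex i' j' ↔ i = i' ∧ j = j' := fun i' j' =>
      ⟨fun h => ⟨by simpa [ex] using DFunLike.congr_fun h 0, by simpa [ex] using DFunLike.congr_fun h 1⟩,
        fun h => by rw [h.1, h.2]⟩
    simp only [hinj, mul_ite, mul_one, mul_zero]
  rw [e] at h0 h1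
  have hL0 : L0 a₆ v (Cx a * (X 0 ^ 0 * X 1 ^ (2 * v)) + Cx b * (X 0 ^ 1 * X 1 ^ (2 * v - 1))) = a * a₆ ^ v := by
    rw [L0, Finset.sum_eq_single v]
    · rw [hco, if_pos ⟨rfl, rfl⟩, if_neg (by omega), add_zero]
    · intro j _ hj; rw [hco, if_neg (by omega), if_neg (by omega), add_zero, zero_mul]
    · simp
  have hL1 : L1 a₆ v (Cx a * (X 0 ^ 0 * X 1 ^ (2 * v)) + Cx b * (X 0 ^ 1 * X 1 ^ (2 * v - 1))) = b * a₆ ^ (v - 1) := by
    rw [L1, Finset.sum_eq_single (v - 1)]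
    · rw [hco, if_neg (by omega), if_pos ⟨rfl, by omega⟩, zero_add]
    · intro j _ hj; rw [hco, if_neg (by omega), if_neg (by omega), add_zero, zero_mul]
    · intro h; exact absurd (Finset.mem_range.2 (by omega)) h
  rw [hL0, pow_succ', mul_dvd_mul_iff_right (pow_ne_zero v (by rw [ha₆]; exact mul_ne_zero u₆.ne_zero hϖ.ne_zero))] at h0
  rw [hL1, show a₆ ^ v = a₆ * a₆ ^ (v - 1) by rw [← pow_succ']; congr 1; omega,
    mul_dvd_mul_iff_right (pow_ne_zero (v - 1) (by rw [ha₆]; exact mul_ne_zero u₆.ne_zero hϖ.ne_zero))] at h1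
  rw [ha₆, Units.mul_left_dvd] at h0 h1
  rw [hmax, Ideal.mem_span_singleton, Ideal.mem_span_singleton]
  exact ⟨h0, h1⟩

end AddTateLib
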